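import Groth.Agent.Lib.FlatSyz.ProjDim
import Mathlib.RingTheory.Ideal.Quotient.Operations
import Mathlib.RingTheory.IsTensorProduct
import Mathlib.LinearAlgebra.TensorProduct.RightExactness

/-!
# Graded pieces of an adic filtration: basic exact sequences
-/

universe u

namespace Groth.Agent.GrFlat

open TensorProduct LinearMap

variable {R B : Type u} [CommRing R] [CommRing B] [Algebra R B] (J : Ideal B)
  (N : Type u) [AddCommGroup N] [Module R N] [Module B N] [IsScalarTower R B N]

/-- `J^n N / J^(n+1) N`. -/
abbrev Gr (n : ℕ) : Type u :=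
  ↥(J ^ n • (⊤ : Submodule B N)) ⧸
    Submodule.comap (J ^ n • (⊤ : Submodule B N)).subtype (J ^ (n + 1) • ⊤)

/-- `N / J^n N`. -/
abbrev Qt (n : ℕ) : Type u := N ⧸ (J ^ n • (⊤ : Submodule B N))

/-- The inclusion of a graded piece. -/
noncomputable def grIncl (n : ℕ) : Gr J N n →ₗ[B] Qt J N (n + 1) :=
  Submodule.mapQ _ _ (J ^ n • (⊤ : Submodule B N)).subtype le_rfl

@[simp] theorem grIncl_mk (n : ℕ) (x : ↥(J ^ n • (⊤ : Submodule B N))) :
    grIncl J N n (Submodule.Quotient.mk x) = Submodule.Quotient.mk (x : N) := rfl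

theorem pow_succ_smul_le (n : ℕ) : J ^ (n + 1) • (⊤ : Submodule B N) ≤ J ^ n • ⊤ :=
  Submodule.smul_mono (Ideal.pow_le_pow_right n.le_succ) le_rfl

/-- The transition map of truncations. -/
noncomputable def qtTr (n : ℕ) : Qt J N (n + 1) →ₗ[B] Qt J N n :=
  Submodule.factor (pow_succ_smul_le J N n)

@[simp] theorem qtTr_mk (n : ℕ) (x : N) :
    qtTr J N n (Submodule.Quotient.mk x) = Submodule.Quotient.mk x := rfl

theorem grIncl_injective (n : ℕ) : Function.Injective (grIncl J N n) := by
  rw [injective_iff_map_eq_zero]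
  intro z hz
  obtain ⟨x, rfl⟩ := Submodule.Quotient.mk_surjective _ z
  rw [grIncl_mk, Submodule.Quotient.mk_eq_zero] at hz
  exact (Submodule.Quotient.mk_eq_zero _).2 hz

theorem qtTr_surjective (n : ℕ) : Function.Surjective (qtTr J N n) := fun z => by
  obtain ⟨x, rfl⟩ := Submodule.Quotient.mk_surjective _ z
  exact ⟨Submodule.Quotient.mk x, rfl⟩

theorem exact_grIncl_qtTr (n : ℕ) : Function.Exact (grIncl J N n) (qtTr J N n) := by
  intro z
  obtain ⟨x, rfl⟩ := Submodule.Quotient.mk_surjective _ z
  constructor
  · intro hz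
    rw [qtTr_mk, Submodule.Quotient.mk_eq_zero] at hz
    exact ⟨Submodule.Quotient.mk ⟨x, hz⟩, rfl⟩
  · rintro ⟨w, hw⟩
    obtain ⟨y, rfl⟩ := Submodule.Quotient.mk_surjective _ w
    rw [← hw, grIncl_mk, qtTr_mk]
    exact (Submodule.Quotient.mk_eq_zero _).2 y.2

theorem subsingleton_qt_zero : Subsingleton (Qt J N 0) := by
  refine Submodule.Quotient.subsingleton_iff.2 ?_
  rw [pow_zero, Ideal.one_eq_top, Submodule.top_smul]

variable (R)

/-- The graded pieces, tensored. -/
noncomputable abbrev grC (C : Type u) [CommRing C] [Algebra R C] (n : ℕ) :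
    C ⊗[R] Gr J N n →ₗ[C] C ⊗[R] Qt J N (n + 1) :=
  ((grIncl J N n).restrictScalars R).baseChange C

noncomputable abbrev qtC (C : Type u) [CommRing C] [Algebra R C] (n : ℕ) :
    C ⊗[R] Qt J N (n + 1) →ₗ[C] C ⊗[R] Qt J N n :=
  ((qtTr J N n).restrictScalars R).baseChange C

theorem exact_grC_qtC (C : Type u) [CommRing C] [Algebra R C] (n : ℕ) :
    Function.Exact (grC R J N C n) (qtC R J N C n) :=
  _root_.lTensor_exact C (fun z => exact_grIncl_qtTr J N n z) (qtTr_surjective J N n)

theorem qtC_surjective (C : Type u) [CommRing C] [Algebra R C] (n : ℕ) :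
    Function.Surjective (qtC R J N C n) :=
  LinearMap.lTensor_surjective (g := (qtTr J N n).restrictScalars R) C (qtTr_surjective J N n)

/-- Extensions of flat modules are flat. -/
theorem flat_middle {A K F M : Type u} [CommRing A] [AddCommGroup K] [Module A K] [AddCommGroup F]
    [Module A F] [AddCommGroup M] [Module A M] [Module.Flat A K] [Module.Flat A M]
    (i : K →ₗ[A] F) (hi : Function.Injective i) (p : F →ₗ[A] M) (hip : Function.Exact i p)
    (hp : Function.Surjective p) : Module.Flat A F := by
  refine Module.Flat.iff_lTensor_injective'.2 fun I => ?_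
  rw [injective_iff_map_eq_zero]
  intro x hx
  have h1 : p.rTensor I x = 0 := by
    apply Module.Flat.lTensor_preserves_injective_linearMap (M := M) I.subtype I.injective_subtype
    rw [← LinearMap.comp_apply, lTensor_comp_rTensor, ← rTensor_comp_lTensor, LinearMap.comp_apply,
      hx, map_zero, map_zero]
  obtain ⟨y, rfl⟩ := (rTensor_exact I hip hp x).1 h1
  have hiA : Function.Injective (i.rTensor A) := by
    intro a b hab
    apply (TensorProduct.rid A K).injective
    apply hi
    have key : ∀ z, i (TensorProduct.rid A K z) = TensorProduct.rid A F (i.rTensor A z) := by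
      intro z
      induction z using TensorProduct.induction_on with
      | zero => simp
      | tmul k a => simp
      | add a b ha hb => simp only [map_add, ha, hb]
    rw [key, key, hab]
  have h2 : I.subtype.lTensor K y = 0 := by
    apply hiA
    rw [map_zero, ← LinearMap.comp_apply, rTensor_comp_lTensor, ← lTensor_comp_rTensor,
      LinearMap.comp_apply, hx]
  rw [Module.Flat.lTensor_preserves_injective_linearMap (M := K) I.subtype I.injective_subtype
    (h2.trans (map_zero _).symm), map_zero]

/-- If the graded pieces inject and are flat, all truncations are flat. -/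
theorem flat_qt_of_gr (C : Type u) [CommRing C] [Algebra R C]
    (hinj : ∀ n, Function.Injective (grC R J N C n)) (hfl : ∀ n, Module.Flat C (C ⊗[R] Gr J N n)) :
    ∀ n, Module.Flat C (C ⊗[R] Qt J N n) := by
  intro n
  induction n with
  | zero =>
    haveI := subsingleton_qt_zero J N
    haveI : Subsingleton (C ⊗[R] Qt J N 0) := inferInstance
    infer_instance
  | succ n ih =>
    haveI := hfl n
    exact flat_middle (grC R J N C n) (hinj n) (qtC R J N C n) (exact_grC_qtC R J N C n) (qtC_surjective R J N C n)

/-- The image of a graded piece is flat when the truncations are. -/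
theorem flat_gr (C : Type u) [CommRing C] [Algebra R C] (n : ℕ)
    (hinj : Function.Injective (grC R J N C n))
    [Module.Flat C (C ⊗[R] Qt J N (n + 1))] [Module.Flat C (C ⊗[R] Qt J N n)] :
    Module.Flat C (C ⊗[R] Gr J N n) :=
  FlatSyz.flat_of_exact (grC R J N C n) hinj (qtC R J N C n) (exact_grC_qtC R J N C n) (qtC_surjective R J N C n)

end Groth.Agent.GrFlat
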