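import Groth.Agent.Lib.GrFlat.Basic
import Groth.Agent.Lib.FlatH4.FlatDescentAux

/-!
# Adic filtrations and base change
-/

universe u

namespace Groth.Agent.GrFlat

open TensorProduct LinearMap

variable {R B : Type u} [CommRing R] [CommRing B] [Algebra R B] (J : Ideal B)
  {N : Type u} [AddCommGroup N] [Module R N] [Module B N] [IsScalarTower R B N]
  {C B' N' : Type u} [CommRing C] [Algebra R C] [CommRing B'] [Algebra C B'] [AddCommGroup N']
  [Module R N'] [Module C N'] [IsScalarTower R C N'] [Module B' N'] [IsScalarTower C B' N']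
  (ψ : B →+* B') (ι : N →ₗ[R] N')

/-- A model of `N'` by `N` after base change to `C`. -/
def Compat : Prop :=
  IsBaseChange C ι ∧ ∀ (b : B) (n : N), ι (b • n) = ψ b • ι n

variable {J ψ ι}

theorem Compat.pow_smul_top_eq (h : Compat (C := C) ψ ι) (k : ℕ) :
    (((J.map ψ) ^ k • (⊤ : Submodule B' N')).restrictScalars C) =
      Submodule.span C (ι '' ((J ^ k • (⊤ : Submodule B N) : Submodule B N) : Set N)) := by
  apply le_antisymm
  · intro z hz
    rw [Submodule.restrictScalars_mem] at hz
    refine Submodule.smul_induction_on hz (fun r hr m _ => ?_) fun a b ha hb => add_mem ha hb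
    rw [← Ideal.map_pow] at hr
    induction hr using Submodule.span_induction generalizing m with
    | zero => simp
    | add x y _ _ hx hy => rw [add_smul]; exact add_mem (hx m trivial) (hy m trivial)
    | smul c x _ hx =>
      rw [smul_eq_mul, mul_comm, mul_smul]
      exact hx _ trivial
    | mem x hx =>
      obtain ⟨j, hj, rfl⟩ := hx
      induction m using h.1.inductionOn with
      | zero => simp
      | add a b ha hb => rw [smul_add]; exact add_mem (ha trivial) (hb trivial)
      | tmul n =>
        rw [← h.2]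
        exact Submodule.subset_span ⟨_, Submodule.smul_mem_smul hj trivial, rfl⟩
      | smul c n hn =>
        rw [smul_comm]
        exact Submodule.smul_mem _ c (hn trivial)
  · rw [Submodule.span_le]
    rintro _ ⟨n, hn, rfl⟩
    refine Submodule.smul_induction_on hn (fun j hj m _ => ?_) fun a b ha hb => by
      rw [map_add]; exact add_mem ha hb
    rw [h.2, ← Ideal.map_pow]
    exact Submodule.smul_mem_smul (Ideal.mem_map_of_mem ψ hj) trivial

theorem Compat.mem_pow_smul_top (h : Compat (C := C) ψ ι) (k : ℕ) {n : N}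
    (hn : n ∈ J ^ k • (⊤ : Submodule B N)) : ι n ∈ (J.map ψ) ^ k • (⊤ : Submodule B' N') := by
  rw [← Submodule.restrictScalars_mem C, h.pow_smul_top_eq]
  exact Submodule.subset_span ⟨n, hn, rfl⟩

/-- The comparison map before tensoring. -/
noncomputable def qtMap (h : Compat (C := C) ψ ι) (k : ℕ) :
    Qt J N k →ₗ[R] ((N' ⧸ ((J.map ψ) ^ k • (⊤ : Submodule B' N')).restrictScalars C)) :=
  (((J ^ k • (⊤ : Submodule B N)).restrictScalars R).liftQ
    (((((J.map ψ) ^ k • (⊤ : Submodule B' N')).restrictScalars C).mkQ.restrictScalars R) ∘ₗ ι)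
    (fun n hn => by
      show Submodule.Quotient.mk (ι n) = _
      exact (Submodule.Quotient.mk_eq_zero _).2 (h.mem_pow_smul_top k hn))).comp
    (Submodule.Quotient.restrictScalarsEquiv R (J ^ k • (⊤ : Submodule B N))).symm.toLinearMap

theorem qtMap_mk (h : Compat (C := C) ψ ι) (k : ℕ) (n : N) :
    qtMap h k (Submodule.Quotient.mk n : Qt J N k) = Submodule.Quotient.mk (ι n) := rfl

theorem qtMap_liftBaseChange_bijective (h : Compat (C := C) ψ ι) (k : ℕ) :
    Function.Bijective ((qtMap (J := J) h k).liftBaseChange C) := by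
  let X := J ^ k • (⊤ : Submodule B N)
  let Φ := (qtMap (J := J) h k).liftBaseChange C
  have key : ∀ t, Φ ((X.mkQ.restrictScalars R).lTensor C t) = Submodule.Quotient.mk (h.1.equiv t) := by
    intro t
    induction t using TensorProduct.induction_on with
    | zero => simp
    | add a b ha hb => rw [map_add, map_add, map_add, ha, hb, Submodule.Quotient.mk_add]
    | tmul c n =>
      rw [lTensor_tmul, IsBaseChange.equiv_tmul, Submodule.Quotient.mk_smul]
      simp [Φ, qtMap_mk, X]
  constructor
  · rw [injective_iff_map_eq_zero]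
    intro z hz
    obtain ⟨t, rfl⟩ := LinearMap.lTensor_surjective C (g := X.mkQ.restrictScalars R) X.mkQ_surjective z
    rw [key, Submodule.Quotient.mk_eq_zero, h.pow_smul_top_eq] at hz
    have hle : Submodule.span C (ι '' (X : Set N)) ≤
        (LinearMap.range ((X.subtype.restrictScalars R).baseChange C)).map h.1.equiv.toLinearMap := by
      rw [Submodule.span_le]
      rintro _ ⟨n, hn, rfl⟩
      exact ⟨(1 : C) ⊗ₜ n, ⟨(1 : C) ⊗ₜ ⟨n, hn⟩, rfl⟩, by simp [IsBaseChange.equiv_tmul]⟩
    obtain ⟨w, ⟨v, rfl⟩, hv⟩ := hle hz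
    rw [← h.1.equiv.injective hv]
    show (X.mkQ.restrictScalars R).lTensor C ((X.subtype.restrictScalars R).lTensor C v) = 0
    rw [← lTensor_comp_apply,
      show (X.mkQ.restrictScalars R).comp (X.subtype.restrictScalars R) = 0 from
        LinearMap.ext fun x => (Submodule.Quotient.mk_eq_zero X).2 x.2]
    simp
  · intro z
    obtain ⟨n', rfl⟩ := Submodule.Quotient.mk_surjective _ z
    obtain ⟨t, rfl⟩ := h.1.equiv.surjective n'
    exact ⟨_, key t⟩

/-- Truncations commute with base change. -/
noncomputable def qtEquiv (h : Compat (C := C) ψ ι) (k : ℕ) :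
    C ⊗[R] Qt J N k ≃ₗ[C] Qt (J.map ψ) N' k :=
  (LinearEquiv.ofBijective _ (qtMap_liftBaseChange_bijective h k)).trans
    (Submodule.Quotient.restrictScalarsEquiv C ((J.map ψ) ^ k • (⊤ : Submodule B' N')))

theorem qtEquiv_tmul (h : Compat (C := C) ψ ι) (k : ℕ) (n : N) :
    qtEquiv h k ((1 : C) ⊗ₜ[R] (Submodule.Quotient.mk n : Qt J N k)) = Submodule.Quotient.mk (ι n) := by
  simp [qtEquiv, qtMap_mk]

section Tensor

variable (R B N)

/-- The tautological model: `C ⊗ N` over `C ⊗ B`. -/
theorem compat_tensor (C : Type u) [CommRing C] [Algebra R C] :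
    letI := FlatH4.tensorModule R C B N
    haveI := FlatH4.tensorModule_isScalarTower R C B N
    Compat (C := C) (B' := C ⊗[R] B) (Algebra.TensorProduct.includeRight : B →ₐ[R] C ⊗[R] B).toRingHom
      (TensorProduct.mk R C N 1) := by
  letI := FlatH4.tensorModule R C B N
  haveI := FlatH4.tensorModule_isScalarTower R C B N
  refine ⟨TensorProduct.isBaseChange R N C, fun b n => ?_⟩
  show _ = FlatH4.tensorAct R C B N ((1 : C) ⊗ₜ b) ((1 : C) ⊗ₜ n)
  rw [FlatH4.tensorAct_tmul, one_mul]
  rfl

end Tensor

end Groth.Agent.GrFlat
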