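import Groth.Agent.Lib.GrFlat.Fibre
import Groth.Agent.Lib.GrFlat.Pieces
import Groth.Agent.Lib.SchDom.LocalInj
import Groth.Agent.Lib.SchDom.FlatNZD

/-!
# Flatness of the associated graded module descends to a finitely generated base
-/

universe u

namespace Groth.Agent.GrFlat

open TensorProduct LinearMap FlatH4

/-- `C ⊗ -` of a tower. -/
noncomputable def towerEquiv (R C A : Type u) [CommRing R] [CommRing C] [CommRing A] [Algebra R C] [Algebra R A]
    [Algebra C A] [IsScalarTower R C A] (X : Type u) [AddCommGroup X] [Module R X] :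
    A ⊗[C] (C ⊗[R] X) ≃ₗ[A] A ⊗[R] X :=
  AlgebraTensorModule.cancelBaseChange R C A A X

theorem flat_baseChange_of_flat (R C A : Type u) [CommRing R] [CommRing C] [CommRing A] [Algebra R C]
    [Algebra R A] [Algebra C A] [IsScalarTower R C A] (X : Type u) [AddCommGroup X] [Module R X]
    [Module.Flat C (C ⊗[R] X)] : Module.Flat A (A ⊗[R] X) :=
  Module.Flat.of_linearEquiv (towerEquiv R C A X).symm

variable {R B : Type u} [CommRing R] [CommRing B] [Algebra R B] (J : Ideal B)
  (N : Type u) [AddCommGroup N] [Module R N] [Module B N] [IsScalarTower R B N]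

/-- Injectivity of the tensored graded pieces passes to base changes with flat truncation. -/
theorem grC_injective_of_stage (C A : Type u) [CommRing C] [CommRing A] [Algebra R C] [Algebra R A]
    [Algebra C A] [IsScalarTower R C A] (n : ℕ) (h : Function.Injective (grC R J N C n))
    [Module.Flat C (C ⊗[R] Qt J N n)] : Function.Injective (grC R J N A n) := by
  have h1 := FlatSyz.lTensor_subtype_injective_of_flat_quotient (grC R J N C n) h (qtC R J N C n)
    (exact_grC_qtC R J N C n) (qtC_surjective R J N C n) A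
  have key : ∀ z, grC R J N A n (towerEquiv R C A _ z) =
      towerEquiv R C A _ ((grC R J N C n).lTensor A z) := by
    intro z
    induction z using TensorProduct.induction_on with
    | zero => simp
    | add a b ha hb => simp only [map_add, ha, hb]
    | tmul a w =>
      induction w using TensorProduct.induction_on with
      | zero => simp
      | add x y hx hy => simp only [tmul_add, map_add, hx, hy]
      | tmul c g => simp [towerEquiv]
  intro a b hab
  obtain ⟨a, rfl⟩ := (towerEquiv R C A _).surjective a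
  obtain ⟨b, rfl⟩ := (towerEquiv R C A _).surjective b
  rw [key, key] at hab
  rw [h1 ((towerEquiv R C A _).injective hab)]

/-- Graded pieces inject into truncations of a flat base change if they do so on fibres. -/
theorem grC_injective_of_fibres [IsNoetherianRing R] [Algebra.FiniteType R B] [Module.Finite B N]
    (A : Type u) [CommRing A] [Algebra R A] [∀ n, Module.Flat A (A ⊗[R] Qt J N n)]
    (hfib : ∀ (k : Type u) [Field k] [Algebra R k], ∀ n, Function.Injective (grC R J N k n)) (n : ℕ) :
    Function.Injective (grC R J N A n) := by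
  haveI : IsNoetherianRing B := Algebra.FiniteType.isNoetherianRing R B
  obtain ⟨B₁, hB₁, hflat₁⟩ := exists_subalgebra_flat R A B (Qt J N (n + 1))
  obtain ⟨B₂, hB₂, hflat₂⟩ := exists_subalgebra_flat R A B (Qt J N n)
  let R' := B₁ ⊔ B₂
  have hR' : R'.FG := hB₁.sup hB₂
  haveI : IsNoetherianRing R' := isNoetherianRing_of_fg hR'
  haveI := hflat₁ R' le_sup_left hR'
  haveI := hflat₂ R' le_sup_right hR'
  refine grC_injective_of_stage J N R' A n ?_
  let T := R' ⊗[R] B
  haveI : Algebra.FiniteType R' T := Algebra.FiniteType.baseChange (A := B) R'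
  haveI : IsNoetherianRing T := Algebra.FiniteType.isNoetherianRing R' T
  letI := tensorModule R R' B (Gr J N n)
  haveI := tensorModule_isScalarTower R R' B (Gr J N n)
  haveI := tensorModule_finite R R' B (Gr J N n)
  letI := tensorModule R R' B (Qt J N (n + 1))
  haveI := tensorModule_isScalarTower R R' B (Qt J N (n + 1))
  haveI := tensorModule_finite R R' B (Qt J N (n + 1))
  let gℓ : R' ⊗[R] Gr J N n →ₗ[T] R' ⊗[R] Qt J N (n + 1) :=
    { toFun := grC R J N R' n
      map_add' := map_add _
      map_smul' := fun s x => tensorAct_natural R' (grIncl J N n) s x }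
  rw [injective_iff_map_eq_zero]
  intro z hz
  refine Module.eq_of_localization_maximal (R := T)
    (fun r _ => LocalizedModule r.primeCompl (R' ⊗[R] Gr J N n))
    (fun r _ => LocalizedModule.mkLinearMap r.primeCompl (R' ⊗[R] Gr J N n)) z 0 fun r hr => ?_
  haveI : r.IsPrime := hr.isPrime
  let p := r.comap (algebraMap R' T)
  have hloc := SchDom.injective_flat_coker_of_fibre_noetherian (R := R') r gℓ (by
    intro y t ht hty
    change t • gℓ y ∈ p • (⊤ : Submodule R' (R' ⊗[R] Qt J N (n + 1))) at hty
    let k := p.ResidueField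
    letI : Algebra R k := ((algebraMap R' k).comp (algebraMap R R')).toAlgebra
    haveI : IsScalarTower R R' k := IsScalarTower.of_algebraMap_eq fun _ => rfl
    have h0 : (1 : k) ⊗ₜ[R'] (t • gℓ y) = 0 := by
      refine Submodule.smul_induction_on hty (fun a ha v _ => ?_) fun a b ha hb => by
        rw [tmul_add, ha, hb, add_zero]
      rw [← TensorProduct.smul_tmul, Algebra.smul_def, mul_one, (Ideal.algebraMap_residueField_eq_zero).2 ha,
        TensorProduct.zero_tmul]
    rw [← map_smul] at h0
    have key : ∀ w : R' ⊗[R] Gr J N n, grC R J N k n (towerEquiv R R' k _ ((1 : k) ⊗ₜ[R'] w)) =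
        towerEquiv R R' k _ ((1 : k) ⊗ₜ[R'] gℓ w) := by
      intro w
      induction w using TensorProduct.induction_on with
      | zero => simp
      | add a b ha hb => simp only [map_add, tmul_add, ha, hb]
      | tmul c g => simp [gℓ, towerEquiv]
    have h1 : (1 : k) ⊗ₜ[R'] (t • y) = 0 := by
      apply (towerEquiv R R' k _).injective
      apply hfib k n
      rw [key, h0, map_zero, map_zero, map_zero]
    obtain ⟨a, ha, hmem⟩ := SchDom.exists_smul_mem_of_one_tmul_eq_zero p _ h1
    refine ⟨algebraMap R' T a * t, fun hm => (Ideal.IsPrime.mem_or_mem ‹r.IsPrime› hm).elim ha ht, ?_⟩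
    rw [mul_smul, algebraMap_smul]
    exact hmem)
  rw [map_zero]
  obtain ⟨t', ht', h0⟩ := hloc.1 z 1 (fun h => ‹r.IsPrime›.ne_top ((Ideal.eq_top_iff_one r).2 h))
    (by rw [one_smul]; exact hz)
  exact (IsLocalizedModule.eq_zero_iff r.primeCompl _).2 ⟨⟨t', ht'⟩, h0⟩

/-- Flatness of the graded pieces descends once they inject on fibres. -/
theorem exists_subalgebra_flat_qt_of_fibres [IsNoetherianRing R] [Algebra.FiniteType R B] [Module.Finite B N]
    (A : Type u) [CommRing A] [Algebra R A] [∀ n, Module.Flat A (A ⊗[R] Qt J N n)]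
    (hfib : ∀ (k : Type u) [Field k] [Algebra R k], ∀ n, Function.Injective (grC R J N k n)) :
    ∃ R₂ : Subalgebra R A, R₂.FG ∧ ∀ n, Module.Flat R₂ (R₂ ⊗[R] Qt J N n) := by
  haveI : IsNoetherianRing B := Algebra.FiniteType.isNoetherianRing R B
  have hinj := grC_injective_of_fibres J N A hfib
  haveI : ∀ n, Module.Flat A (A ⊗[R] Gr J N n) := fun n => flat_gr R J N A n (hinj n)
  haveI := flat_grT (R := R) J N A
  haveI := grT_finite (J := J) (N := N)
  haveI := rees_finiteType (R := R) J
  obtain ⟨R₂, hR₂, hflat⟩ := exists_subalgebra_flat R A (reesAlgebra J) (GrT J N)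
  haveI := hflat R₂ le_rfl hR₂
  refine ⟨R₂, hR₂, flat_qt_of_gr R J N R₂ (fun n => ?_) (fun n => flat_gr_of_grT J N R₂ n)⟩
  haveI := flat_gr_of_grT (R := R) J N R₂ n
  rw [injective_iff_map_eq_zero]
  intro z hz
  -- compare with `A`
  let e := towerEquiv R R₂ A (Gr J N n)
  have hinj' : Function.Injective fun w : R₂ ⊗[R] Gr J N n => (1 : A) ⊗ₜ[R₂] w :=
    Module.Flat.tensorProduct_mk_injective (R := R₂) (S := A) (M := R₂ ⊗[R] Gr J N n)
  have key : ∀ w : R₂ ⊗[R] Gr J N n, grC R J N A n (e ((1 : A) ⊗ₜ[R₂] w)) =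
      towerEquiv R R₂ A _ ((1 : A) ⊗ₜ[R₂] grC R J N R₂ n w) := by
    intro w
    induction w using TensorProduct.induction_on with
    | zero => simp
    | add a b ha hb => simp only [map_add, tmul_add, ha, hb]
    | tmul c g => simp [e, towerEquiv]
  apply hinj'
  apply e.injective
  apply hinj n
  rw [key, hz]
  simp

/-- Graded pieces inject on all fibres at a finite stage. -/
theorem exists_subalgebra_fibres [IsNoetherianRing R] [Algebra.FiniteType R B] [Module.Finite B N]
    (A : Type u) [CommRing A] [Algebra R A] [∀ n, Module.Flat A (A ⊗[R] Qt J N n)] :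
    ∃ R₁ : Subalgebra R A, R₁.FG ∧
      letI := tensorModule R R₁ B N
      haveI := tensorModule_isScalarTower R R₁ B N
      ∀ (k : Type u) [Field k] [Algebra R₁ k], ∀ n, Function.Injective
        (grC R₁ (J.map (Algebra.TensorProduct.includeRight : B →ₐ[R] R₁ ⊗[R] B).toRingHom) (R₁ ⊗[R] N) k n) := by
  classical
  haveI : IsNoetherianRing B := Algebra.FiniteType.isNoetherianRing R B
  have hf : ∀ P : PrimeSpectrum R, ∃ f ∉ P.asIdeal, ∀ n, ModFree P.asIdeal f (Qt J N n) := fun P =>
    exists_modFree_qt J N P.asIdeal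
  choose f hfP hfree using hf
  obtain ⟨T, hT, hcov⟩ := exists_strata R f hfP ⊥
  choose B₀ hB₀ hrel using fun P : PrimeSpectrum R => exists_forall_rel (N := N) J A P.asIdeal
  let R₁ := hT.toFinset.sup B₀
  have hR₁ : R₁.FG := Finset.sup_induction Subalgebra.fg_bot (fun a ha b hb => ha.sup hb) fun P _ => hB₀ P
  refine ⟨R₁, hR₁, ?_⟩
  let _ := tensorModule R R₁ B N
  have := tensorModule_isScalarTower R R₁ B N
  intro k _ _ n
  letI : Algebra R k := ((algebraMap R₁ k).comp (algebraMap R R₁)).toAlgebra
  haveI : IsScalarTower R R₁ k := IsScalarTower.of_algebraMap_eq fun _ => rfl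
  let q : PrimeSpectrum R := ⟨RingHom.ker (algebraMap R k), RingHom.ker_isPrime _⟩
  obtain ⟨P, hP, hPq, hfq⟩ := hcov q bot_le
  exact grC_injective_of_rel (compat_tensor R B N R₁) P.asIdeal (f P) (hfree P)
    (hrel P R₁ (Finset.le_sup (f := B₀) (hT.mem_toFinset.2 hP))) k
    (fun r hr => hPq hr) (fun h => hfq h) n

/-- If all truncations `N / J^n N` are flat over `A` after base change, they are already so over a finitely
generated subalgebra. -/
theorem exists_subalgebra_flat_qt [IsNoetherianRing R] [Algebra.FiniteType R B] [Module.Finite B N]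
    (A : Type u) [CommRing A] [Algebra R A] [∀ n, Module.Flat A (A ⊗[R] Qt J N n)] :
    ∃ R₂ : Subalgebra R A, R₂.FG ∧ ∀ n, Module.Flat R₂ (R₂ ⊗[R] Qt J N n) := by
  obtain ⟨R₁, hR₁, hfib⟩ := exists_subalgebra_fibres (R := R) J N A
  haveI : IsNoetherianRing R₁ := isNoetherianRing_of_fg hR₁
  let _ := tensorModule R R₁ B N
  have := tensorModule_isScalarTower R R₁ B N
  have := tensorModule_finite R R₁ B N
  haveI : Algebra.FiniteType R₁ (R₁ ⊗[R] B) := Algebra.FiniteType.baseChange (A := B) R₁
  let J₁ := J.map (Algebra.TensorProduct.includeRight : B →ₐ[R] R₁ ⊗[R] B).toRingHom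
  let q := fun n => qtEquiv (J := J) (compat_tensor R B N R₁) n
  haveI : ∀ n, Module.Flat A (A ⊗[R₁] Qt J₁ (R₁ ⊗[R] N) n) := fun n =>
    Module.Flat.of_linearEquiv ((AlgebraTensorModule.congr (LinearEquiv.refl A A) (q n).symm).trans
      (towerEquiv R R₁ A (Qt J N n)))
  obtain ⟨R₂, hR₂, hflat⟩ := exists_subalgebra_flat_qt_of_fibres J₁ (R₁ ⊗[R] N) A hfib
  haveI : IsScalarTower R R₁ R₂ := IsScalarTower.of_algebraMap_eq fun _ => rfl
  refine ⟨R₂.restrictScalars R, ?_, fun n => ?_⟩
  · rw [Subalgebra.fg_iff_finiteType]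
    haveI : Algebra.FiniteType R R₁ := (Subalgebra.fg_iff_finiteType _).1 hR₁
    haveI : Algebra.FiniteType R₁ R₂ := (Subalgebra.fg_iff_finiteType _).1 hR₂
    change Algebra.FiniteType R R₂
    exact Algebra.FiniteType.trans (S := R₁) (A := R₂) inferInstance inferInstance
  · haveI := hflat n
    show Module.Flat R₂ (R₂ ⊗[R] Qt J N n)
    exact Module.Flat.of_linearEquiv ((towerEquiv R R₁ R₂ (Qt J N n)).symm.trans
      (AlgebraTensorModule.congr (LinearEquiv.refl R₂ R₂) (q n)))

end Groth.Agent.GrFlat
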