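import Groth.Agent.Lib.GrFlat.Change
import Groth.Agent.Lib.FlatH4.FlatDescent
import Mathlib.RingTheory.Filtration

/-!
# Descending the purity relations to a finitely generated subalgebra
-/

universe u

namespace Groth.Agent.GrFlat

open TensorProduct LinearMap FlatH4

variable {R B : Type u} [CommRing R] [CommRing B] [Algebra R B]
  {N : Type u} [AddCommGroup N] [Module R N] [Module B N] [IsScalarTower R B N]

section Model

variable {J : Ideal B} {C B' N' : Type u} [CommRing C] [Algebra R C] [CommRing B'] [Algebra C B']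
  [AddCommGroup N'] [Module R N'] [Module C N'] [IsScalarTower R C N'] [Module B' N'] [IsScalarTower C B' N']
  {ψ : B →+* B'} {ι : N →ₗ[R] N'}

theorem Compat.psi_algebraMap_smul (h : Compat (C := C) ψ ι) (r : R) (z : N') :
    ψ (algebraMap R B r) • z = r • z := by
  induction z using h.1.inductionOn with
  | zero => simp
  | add a b ha hb => rw [smul_add, smul_add, ha, hb]
  | tmul n => rw [← h.2, algebraMap_smul, map_smul]
  | smul c z hz => rw [smul_comm, hz, smul_comm]

/-- The relation `ι u ∈ P J'^n N'`. -/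
def Rel (P : Ideal R) (J : Ideal B) (ψ : B →+* B') (ι : N →ₗ[R] N') (n : ℕ) (u : N) : Prop :=
  ι u ∈ (P.map (algebraMap R B)).map ψ • ((J.map ψ) ^ n • (⊤ : Submodule B' N'))

theorem rel_of_preimage (h : Compat (C := C) ψ ι) (P : Ideal R) (n : ℕ) (u : N)
    (β : C ⊗[R] ↥(J ^ n • (⊤ : Submodule B N)))
    (hβ : β ∈ P • (⊤ : Submodule R (C ⊗[R] ↥(J ^ n • (⊤ : Submodule B N)))))
    (hu : (ι ∘ₗ (J ^ n • (⊤ : Submodule B N)).subtype.restrictScalars R).liftBaseChange C β = ι u) :
    Rel P J ψ ι n u := by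
  unfold Rel
  rw [← hu]
  clear hu
  refine Submodule.smul_induction_on hβ (fun r hr y _ => ?_) fun a b ha hb => by
    rw [map_add]; exact add_mem ha hb
  rw [LinearMap.map_smul_of_tower, ← h.psi_algebraMap_smul]
  refine Submodule.smul_mem_smul (Ideal.mem_map_of_mem ψ (Ideal.mem_map_of_mem _ hr)) ?_
  induction y using TensorProduct.induction_on with
  | zero => simp
  | add a b ha hb => rw [map_add]; exact add_mem (ha trivial) (hb trivial)
  | tmul c x =>
    rw [LinearMap.liftBaseChange_tmul]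
    exact Submodule.smul_of_tower_mem _ c (h.mem_pow_smul_top n x.2)

theorem Rel.add {P : Ideal R} {n : ℕ} {u v : N} (hu : Rel P J ψ ι n u) (hv : Rel P J ψ ι n v) :
    Rel P J ψ ι n (u + v) := by
  unfold Rel at *
  rw [map_add]; exact add_mem hu hv

/-- The relation propagates up the filtration. -/
theorem Rel.of_mem_pow_smul (h : Compat (C := C) ψ ι) {P : Ideal R} {n k : ℕ} {U : Submodule B N}
    (hU : ∀ u ∈ U, Rel P J ψ ι n u) {v : N} (hv : v ∈ J ^ k • U) : Rel P J ψ ι (k + n) v := by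
  refine Submodule.smul_induction_on hv (fun j hj u hu => ?_) fun a b ha hb => ha.add hb
  unfold Rel
  rw [h.2, pow_add, mul_smul, ← Submodule.mul_smul, mul_comm, Submodule.mul_smul]
  exact Submodule.smul_mem_smul (by rw [← Ideal.map_pow]; exact Ideal.mem_map_of_mem _ hj) (hU u hu)

theorem rel_span (h : Compat (C := C) ψ ι) {P : Ideal R} {n : ℕ} {s : Set N}
    (hs : ∀ u ∈ s, Rel P J ψ ι n u) : ∀ u ∈ Submodule.span B s, Rel P J ψ ι n u := by
  intro u hu
  induction hu using Submodule.span_induction with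
  | mem x hx => exact hs x hx
  | zero => unfold Rel; simp
  | add a b _ _ ha hb => exact ha.add hb
  | smul b x _ hx =>
    unfold Rel at *
    rw [h.2]
    exact Submodule.smul_mem _ _ hx

end Model

/-- Elements of `P (A ⊗ X)` descend. -/
theorem exists_subalgebra_mem_smul {A X : Type u} [CommRing A] [Algebra R A] [AddCommGroup X] [Module R X]
    (P : Ideal R) {t : A ⊗[R] X} (ht : t ∈ P • (⊤ : Submodule R (A ⊗[R] X))) :
    ∃ B₁ : Subalgebra R A, B₁.FG ∧ ∃ t₁ ∈ P • (⊤ : Submodule R (B₁ ⊗[R] X)),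
      B₁.val.toLinearMap.rTensor X t₁ = t := by
  refine Submodule.smul_induction_on ht (fun r hr y _ => ?_) ?_
  · obtain ⟨B₁, hB₁, y₁, rfl⟩ := TensorProduct.Algebra.exists_of_fg y
    exact ⟨B₁, hB₁, r • y₁, Submodule.smul_mem_smul hr trivial, by rw [map_smul]⟩
  · rintro _ _ ⟨B₁, hB₁, y₁, hy₁, rfl⟩ ⟨B₂, hB₂, y₂, hy₂, rfl⟩
    refine ⟨B₁ ⊔ B₂, hB₁.sup hB₂, _, add_mem
      ((Submodule.map_smul'' P (⊤ : Submodule R (B₁ ⊗[R] X))
        ((Subalgebra.inclusion (le_sup_left : B₁ ≤ B₁ ⊔ B₂)).toLinearMap.rTensor X)).trans_le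
          (Submodule.smul_mono le_rfl le_top) (Submodule.mem_map_of_mem hy₁))
      ((Submodule.map_smul'' P (⊤ : Submodule R (B₂ ⊗[R] X))
        ((Subalgebra.inclusion (le_sup_right : B₂ ≤ B₁ ⊔ B₂)).toLinearMap.rTensor X)).trans_le
          (Submodule.smul_mono le_rfl le_top) (Submodule.mem_map_of_mem hy₂)), ?_⟩
    rw [map_add, ← rTensor_comp_apply, ← rTensor_comp_apply]
    rfl

variable (J : Ideal B)

/-- The form of `Rel` used for descent. -/
def RelT (C : Type u) [CommRing C] [Algebra R C] (P : Ideal R) (n : ℕ) (u : N) : Prop :=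
  ∃ β ∈ P • (⊤ : Submodule R (C ⊗[R] ↥(J ^ n • (⊤ : Submodule B N)))),
    ((J ^ n • (⊤ : Submodule B N)).subtype.restrictScalars R).lTensor C β = (1 : C) ⊗ₜ[R] u

theorem RelT.mono {A : Type u} [CommRing A] [Algebra R A] {P : Ideal R} {n : ℕ} {u : N}
    {B₁ B₂ : Subalgebra R A} (hle : B₁ ≤ B₂) (h : RelT J B₁ P n u) : RelT J B₂ P n u := by
  obtain ⟨β, hβ, hu⟩ := h
  refine ⟨(Subalgebra.inclusion hle).toLinearMap.rTensor _ β,
    (Submodule.map_smul'' P ⊤ ((Subalgebra.inclusion hle).toLinearMap.rTensor _)).trans_le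
      (Submodule.smul_mono le_rfl le_top) (Submodule.mem_map_of_mem hβ), ?_⟩
  rw [← LinearMap.comp_apply, lTensor_comp_rTensor, ← rTensor_comp_lTensor, LinearMap.comp_apply, hu,
    rTensor_tmul]
  simp

theorem exists_relT {A : Type u} [CommRing A] [Algebra R A] (P : Ideal R) (n : ℕ) (u : N)
    [Module.Flat A (A ⊗[R] Qt J N n)] (hu : u ∈ J ^ n • (⊤ : Submodule B N))
    (huP : u ∈ P • (⊤ : Submodule R N)) :
    ∃ B₁ : Subalgebra R A, B₁.FG ∧ RelT J B₁ P n u := by
  let X := J ^ n • (⊤ : Submodule B N)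
  have hz : (1 : A) ⊗ₜ[R] u ∈ P.map (algebraMap R A) • (⊤ : Submodule A (A ⊗[R] N)) := by
    show _ ∈ (P.map (algebraMap R A) • (⊤ : Submodule A (A ⊗[R] N))).restrictScalars R
    rw [map_smul_top_restrictScalars]
    exact (Submodule.map_smul'' P ⊤ (TensorProduct.mk R A N 1)).trans_le
      (Submodule.smul_mono le_rfl le_top) (Submodule.mem_map_of_mem huP)
  have hex : Function.Exact ((X.subtype.restrictScalars R).baseChange A) ((X.mkQ.restrictScalars R).baseChange A) :=
    _root_.lTensor_exact A (LinearMap.exact_subtype_mkQ X) X.mkQ_surjective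
  obtain ⟨t, ht, htu⟩ := exists_mem_smul_of_flat ((X.subtype.restrictScalars R).baseChange A)
    ((X.mkQ.restrictScalars R).baseChange A) hex (LinearMap.lTensor_surjective A X.mkQ_surjective) _ hz (by
      rw [LinearMap.baseChange_tmul]
      simp [X, (Submodule.Quotient.mk_eq_zero _).2 hu])
  have ht' : t ∈ P • (⊤ : Submodule R (A ⊗[R] X)) := by
    rw [← map_smul_top_restrictScalars (S := A)]
    exact ht
  obtain ⟨B₁, hB₁, t₁, ht₁, rfl⟩ := exists_subalgebra_mem_smul P ht'
  have heq : B₁.val.toLinearMap.rTensor N ((X.subtype.restrictScalars R).lTensor B₁ t₁) =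
      B₁.val.toLinearMap.rTensor N ((1 : B₁) ⊗ₜ[R] u) := by
    rw [← LinearMap.comp_apply, rTensor_comp_lTensor, ← lTensor_comp_rTensor, LinearMap.comp_apply,
      rTensor_tmul]
    exact htu
  obtain ⟨B₂, hle, hB₂, h2⟩ := TensorProduct.Algebra.eq_of_fg_of_subtype_eq hB₁ heq
  refine ⟨B₂, hB₂, (Subalgebra.inclusion hle).toLinearMap.rTensor _ t₁,
    (Submodule.map_smul'' P ⊤ ((Subalgebra.inclusion hle).toLinearMap.rTensor _)).trans_le
      (Submodule.smul_mono le_rfl le_top) (Submodule.mem_map_of_mem ht₁), ?_⟩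
  rw [← LinearMap.comp_apply, lTensor_comp_rTensor, ← rTensor_comp_lTensor, LinearMap.comp_apply, h2,
    rTensor_tmul]
  simp

/-- All relations for one ideal hold at a finite stage. -/
theorem exists_forall_rel [IsNoetherianRing B] [Module.Finite B N] (A : Type u) [CommRing A] [Algebra R A]
    [∀ n, Module.Flat A (A ⊗[R] Qt J N n)] (P : Ideal R) :
    ∃ B₀ : Subalgebra R A, B₀.FG ∧ ∀ C : Subalgebra R A, B₀ ≤ C →
      letI := tensorModule R C B N
      haveI := tensorModule_isScalarTower R C B N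
      ∀ n, ∀ u : N, u ∈ J ^ n • (⊤ : Submodule B N) → u ∈ P • (⊤ : Submodule R N) →
        Rel P J (Algebra.TensorProduct.includeRight : B →ₐ[R] C ⊗[R] B).toRingHom
          (TensorProduct.mk R C N 1) n u := by
  classical
  let PN : Submodule B N := P.map (algebraMap R B) • ⊤
  have hPN : PN.restrictScalars R = P • (⊤ : Submodule R N) := map_smul_top_restrictScalars P
  obtain ⟨n₀, hn₀⟩ := J.exists_pow_inf_eq_pow_smul PN
  have hgen : ∀ n, ∃ s : Finset N, Submodule.span B (s : Set N) = J ^ n • ⊤ ⊓ PN := fun n =>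
    IsNoetherian.noetherian _
  choose s hs using hgen
  have hone : ∀ n, ∀ u ∈ s n, ∃ B₁ : Subalgebra R A, B₁.FG ∧ RelT J B₁ P n u := fun n u hu => by
    have : u ∈ J ^ n • ⊤ ⊓ PN := hs n ▸ Submodule.subset_span hu
    exact exists_relT J P n u this.1 (hPN ▸ this.2)
  choose Bf hBf hrel using hone
  let B₀ : Subalgebra R A :=
    (Finset.range (n₀ + 1)).sup fun n => (s n).attach.sup fun u => Bf n u.1 u.2
  have hB₀ : B₀.FG := Finset.sup_induction Subalgebra.fg_bot (fun a ha b hb => ha.sup hb)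
    fun n _ => Finset.sup_induction Subalgebra.fg_bot (fun a ha b hb => ha.sup hb) fun u _ => hBf _ _ _
  refine ⟨B₀, hB₀, fun C hC => ?_⟩
  let _ := tensorModule R C B N
  have := tensorModule_isScalarTower R C B N
  have hcomp := compat_tensor R B N C
  have hlow : ∀ n ≤ n₀, ∀ u ∈ J ^ n • (⊤ : Submodule B N) ⊓ PN,
      Rel P J (Algebra.TensorProduct.includeRight : B →ₐ[R] C ⊗[R] B).toRingHom
        (TensorProduct.mk R C N 1) n u := by
    intro n hn u hu
    rw [← hs n] at hu
    refine rel_span hcomp (fun v hv => ?_) u hu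
    have hle : Bf n v hv ≤ C := by
      refine le_trans ?_ hC
      refine le_trans ?_ (Finset.le_sup (f := fun n => (s n).attach.sup fun u => Bf n u.1 u.2)
        (Finset.mem_range.2 (Nat.lt_succ_of_le hn)))
      exact Finset.le_sup (f := fun u : s n => Bf n u.1 u.2) (Finset.mem_attach _ ⟨v, hv⟩)
    obtain ⟨β, hβ, hβv⟩ := RelT.mono J hle (hrel n v hv)
    refine rel_of_preimage hcomp P n v β hβ ?_
    rw [TensorProduct.mk_apply, ← hβv]
    clear hβ hβv
    induction β using TensorProduct.induction_on with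
    | zero => simp
    | add a b ha hb => rw [map_add, map_add, ha, hb]
    | tmul c x =>
      rw [LinearMap.liftBaseChange_tmul, lTensor_tmul]
      simp [TensorProduct.smul_tmul']
  intro n u hu huP
  have huPN : u ∈ J ^ n • (⊤ : Submodule B N) ⊓ PN := ⟨hu, show u ∈ PN.restrictScalars R by rw [hPN]; exact huP⟩
  rcases le_or_gt n n₀ with h | h
  · exact hlow n h u huPN
  · rw [hn₀ n h.le] at huPN
    have := Rel.of_mem_pow_smul hcomp (hlow n₀ le_rfl) huPN
    rwa [Nat.sub_add_cancel h.le] at this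

/-- Finitely many principal strata cover the spectrum. -/
theorem exists_strata (R : Type u) [CommRing R] [IsNoetherianRing R] (f : PrimeSpectrum R → R)
    (hf : ∀ P : PrimeSpectrum R, f P ∉ P.asIdeal) (I : Ideal R) :
    ∃ T : Set (PrimeSpectrum R), T.Finite ∧ ∀ q : PrimeSpectrum R, I ≤ q.asIdeal →
      ∃ P ∈ T, P.asIdeal ≤ q.asIdeal ∧ f P ∉ q.asIdeal := by
  induction I using WellFoundedGT.induction with
  | _ I ih =>
  by_cases htop : I = ⊤
  · exact ⟨∅, Set.finite_empty, fun q hq => absurd (top_le_iff.1 (htop ▸ hq)) q.2.ne_top⟩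
  by_cases hI : I.IsPrime
  · let P : PrimeSpectrum R := ⟨I, hI⟩
    obtain ⟨T, hT, hcov⟩ := ih (I ⊔ Ideal.span {f P}) (lt_of_le_of_ne le_sup_left fun h => hf P (by
      show f P ∈ I
      rw [h]; exact Ideal.mem_sup_right (Ideal.mem_span_singleton_self _)))
    refine ⟨insert P T, hT.insert P, fun q hq => ?_⟩
    by_cases hfq : f P ∈ q.asIdeal
    · obtain ⟨Q, hQ, h⟩ := hcov q (sup_le hq ((Ideal.span_singleton_le_iff_mem _).2 hfq))
      exact ⟨Q, Set.mem_insert_of_mem _ hQ, h⟩
    · exact ⟨P, Set.mem_insert _ _, hq, hfq⟩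
  · rw [Ideal.isPrime_iff] at hI
    push Not at hI
    obtain ⟨a, b, hab, ha, hb⟩ := hI htop
    obtain ⟨T₁, hT₁, h₁⟩ := ih (I ⊔ Ideal.span {a}) (lt_of_le_of_ne le_sup_left fun h => ha (by
      rw [h]; exact Ideal.mem_sup_right (Ideal.mem_span_singleton_self a)))
    obtain ⟨T₂, hT₂, h₂⟩ := ih (I ⊔ Ideal.span {b}) (lt_of_le_of_ne le_sup_left fun h => hb (by
      rw [h]; exact Ideal.mem_sup_right (Ideal.mem_span_singleton_self b)))
    refine ⟨T₁ ∪ T₂, hT₁.union hT₂, fun q hq => ?_⟩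
    rcases q.2.mem_or_mem (hq hab) with h | h
    · obtain ⟨Q, hQ, h'⟩ := h₁ q (sup_le hq ((Ideal.span_singleton_le_iff_mem _).2 h))
      exact ⟨Q, Or.inl hQ, h'⟩
    · obtain ⟨Q, hQ, h'⟩ := h₂ q (sup_le hq ((Ideal.span_singleton_le_iff_mem _).2 h))
      exact ⟨Q, Or.inr hQ, h'⟩

end Groth.Agent.GrFlat
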