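import Groth.Agent.Lib.GrFlat.Descend

/-!
# Graded pieces inject on fibres
-/

universe u

namespace Groth.Agent.GrFlat

open TensorProduct LinearMap FlatH4

variable {R B : Type u} [CommRing R] [CommRing B] [Algebra R B]
  {N : Type u} [AddCommGroup N] [Module R N] [Module B N] [IsScalarTower R B N]
  {C B' N' : Type u} [CommRing C] [Algebra R C] [CommRing B'] [Algebra C B']
  [AddCommGroup N'] [Module R N'] [Module C N'] [IsScalarTower R C N'] [Module B' N'] [IsScalarTower C B' N']
  {ψ : B →+* B'} {ι : N →ₗ[R] N'} {J : Ideal B}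

/-- Graded pieces of the base change inject on a fibre over a stratum. -/
theorem grC_injective_of_rel (h : Compat (C := C) ψ ι) (P : Ideal R) (f : R)
    (hfree : ∀ n, ModFree P f (Qt J N n))
    (hrel : ∀ n, ∀ u : N, u ∈ J ^ n • (⊤ : Submodule B N) → u ∈ P • (⊤ : Submodule R N) → Rel P J ψ ι n u)
    (k : Type u) [Field k] [Algebra R k] [Algebra C k] [IsScalarTower R C k]
    (hP : ∀ r ∈ P, algebraMap R k r = 0) (hf : algebraMap R k f ≠ 0) (n : ℕ) :
    Function.Injective (grC C (J.map ψ) N' k n) := by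
  let X := J ^ n • (⊤ : Submodule B N)
  let Xp := (J.map ψ) ^ n • (⊤ : Submodule B' N')
  let G' := Gr (J.map ψ) N' n
  letI : Module R G' := Module.compHom G' (algebraMap R C)
  haveI : IsScalarTower R C G' := IsScalarTower.of_algebraMap_smul fun _ _ => rfl
  let φ : ↥X →ₗ[R] G' :=
    { toFun := fun x => Submodule.Quotient.mk ⟨ι x, h.mem_pow_smul_top n x.2⟩
      map_add' := fun x y => by
        rw [← Submodule.Quotient.mk_add]
        exact congrArg _ (Subtype.ext (map_add ι _ _))
      map_smul' := fun r x => by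
        rw [RingHom.id_apply, ← algebraMap_smul C r (Submodule.Quotient.mk _ : G'), ← Submodule.Quotient.mk_smul]
        refine congrArg _ (Subtype.ext ?_)
        show ι (r • (x : N)) = algebraMap R C r • ι x
        rw [algebraMap_smul, map_smul] }
  let π : k ⊗[R] X →ₗ[k] k ⊗[C] G' :=
    (((TensorProduct.mk C k G' 1).restrictScalars R) ∘ₗ φ).liftBaseChange k
  have hπ : Function.Surjective π := by
    have hG : ∀ g : G', ∀ c : k, c ⊗ₜ[C] g ∈ LinearMap.range π := by
      intro g
      obtain ⟨⟨v, hv⟩, rfl⟩ := Submodule.Quotient.mk_surjective _ g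
      have hv' : v ∈ Submodule.span C (ι '' (X : Set N)) := by
        rw [← h.pow_smul_top_eq]; exact hv
      suffices ∀ hv : v ∈ Xp, ∀ c : k, c ⊗ₜ[C] (Submodule.Quotient.mk ⟨v, hv⟩ : G') ∈ LinearMap.range π from this hv
      clear hv
      induction hv' using Submodule.span_induction with
      | mem w hw =>
        obtain ⟨x, hx, rfl⟩ := hw
        intro hv c
        exact ⟨c ⊗ₜ ⟨x, hx⟩, by simp [π, φ, TensorProduct.smul_tmul']⟩
      | zero =>
        intro hv c
        rw [show (⟨0, hv⟩ : Xp) = 0 from rfl, Submodule.Quotient.mk_zero, tmul_zero]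
        exact zero_mem _
      | add a b ha' hb' ha hb =>
        intro hv c
        have hXa : a ∈ Xp := by rw [← Submodule.restrictScalars_mem C, h.pow_smul_top_eq]; exact ha'
        have hXb : b ∈ Xp := by rw [← Submodule.restrictScalars_mem C, h.pow_smul_top_eq]; exact hb'
        rw [show (⟨a + b, hv⟩ : Xp) = ⟨a, hXa⟩ + ⟨b, hXb⟩ from rfl, Submodule.Quotient.mk_add, tmul_add]
        exact add_mem (ha hXa c) (hb hXb c)
      | smul d a ha' ha =>
        intro hv c
        have hXa : a ∈ Xp := by rw [← Submodule.restrictScalars_mem C, h.pow_smul_top_eq]; exact ha'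
        rw [show (⟨d • a, hv⟩ : Xp) = d • ⟨a, hXa⟩ from rfl, Submodule.Quotient.mk_smul, ← TensorProduct.smul_tmul]
        exact ha hXa _
    intro z
    induction z using TensorProduct.induction_on with
    | zero => exact ⟨0, map_zero _⟩
    | add a b ha hb =>
      obtain ⟨a', rfl⟩ := ha
      obtain ⟨b', rfl⟩ := hb
      exact ⟨a' + b', map_add _ _ _⟩
    | tmul c g => exact hG g c
  -- the comparison on the target
  let θ : k ⊗[R] Qt J N (n + 1) ≃ₗ[k] k ⊗[C] Qt (J.map ψ) N' (n + 1) :=
    (AlgebraTensorModule.cancelBaseChange R C k k _).symm.trans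
      (AlgebraTensorModule.congr (LinearEquiv.refl k k) (qtEquiv h (n + 1)))
  let incl : ↥X →ₗ[R] Qt J N (n + 1) :=
    ((J ^ (n + 1) • (⊤ : Submodule B N)).mkQ.comp X.subtype).restrictScalars R
  have hsq : ∀ y, grC C (J.map ψ) N' k n (π y) = θ (incl.lTensor k y) := by
    intro y
    induction y using TensorProduct.induction_on with
    | zero => simp
    | add a b ha hb => rw [map_add, map_add, map_add, map_add, ha, hb]
    | tmul c x =>
      simp [π, φ, θ, incl, TensorProduct.smul_tmul', qtEquiv_tmul]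
  rw [injective_iff_map_eq_zero]
  intro z hz
  obtain ⟨y, rfl⟩ := hπ z
  rw [hsq, θ.map_eq_zero_iff] at hz
  let W : Submodule R X := (P • (⊤ : Submodule R (Qt J N (n + 1)))).comap incl
  have hkill : Module.IsTorsionBySet R k (P : Set R) := fun x r => by
    show (r : R) • x = 0
    rw [Algebra.smul_def, hP r r.2, zero_mul]
  have hex : Function.Exact incl ((qtTr J N n).restrictScalars R) := by
    intro v
    refine ⟨fun hv => ?_, ?_⟩
    · obtain ⟨g, rfl⟩ := (exact_grIncl_qtTr J N n v).1 hv
      obtain ⟨x, rfl⟩ := Submodule.Quotient.mk_surjective _ g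
      exact ⟨x, rfl⟩
    · rintro ⟨x, rfl⟩
      exact (Submodule.Quotient.mk_eq_zero _).2 x.2
  obtain ⟨l, c, hc⟩ := exists_pow_mem_range_of_rTensor_eq_zero incl ((qtTr J N n).restrictScalars R)
    hex (qtTr_surjective J N n) P f (hfree n) W (fun x hx => hx) hkill y hz
  have h0 : ∀ (a : k) (x : W), π (a ⊗ₜ (x : X)) = 0 := by
    intro a x
    obtain ⟨⟨v, hvX⟩, hvW⟩ := x
    have hv : (Submodule.Quotient.mk v : Qt J N (n + 1)) ∈
        (P • (⊤ : Submodule R N)).map ((J ^ (n + 1) • (⊤ : Submodule B N)).mkQ.restrictScalars R) := by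
      rw [Submodule.map_smul'', Submodule.map_top,
        LinearMap.range_eq_top.2 (show Function.Surjective ((J ^ (n + 1) • (⊤ : Submodule B N)).mkQ.restrictScalars R)
          from Submodule.mkQ_surjective _)]
      exact hvW
    obtain ⟨w, hw, hwv⟩ := hv
    have hb : w - v ∈ J ^ (n + 1) • (⊤ : Submodule B N) := (Submodule.Quotient.eq _).1 hwv
    have hwX : w ∈ X := by
      have := add_mem (pow_succ_smul_le J N n hb) hvX
      rwa [sub_add_cancel] at this
    have hr := hrel n w hwX hw
    have hφ : φ ⟨v, hvX⟩ = φ ⟨w, hwX⟩ := by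
      refine (Submodule.Quotient.eq _).2 ?_
      show ι v - ι w ∈ (J.map ψ) ^ (n + 1) • (⊤ : Submodule B' N')
      rw [← map_sub]
      exact h.mem_pow_smul_top (n + 1) (by simpa using neg_mem hb)
    show π (a ⊗ₜ ⟨v, hvX⟩) = 0
    rw [show π (a ⊗ₜ ⟨v, hvX⟩) = a • ((1 : k) ⊗ₜ[C] φ ⟨v, hvX⟩) by simp [π], hφ]
    suffices ∀ hwp : ι w ∈ Xp, (1 : k) ⊗ₜ[C] (Submodule.Quotient.mk ⟨ι w, hwp⟩ : G') = 0 by
      rw [show φ ⟨w, hwX⟩ = Submodule.Quotient.mk ⟨ι w, h.mem_pow_smul_top n hwX⟩ from rfl, this, smul_zero]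
    have hkey : ∀ r ∈ (P.map (algebraMap R B)).map ψ, ∀ (m : N') (hm : m ∈ Xp) (c : k),
        c ⊗ₜ[C] (Submodule.Quotient.mk ⟨r • m, Submodule.smul_mem _ r hm⟩ : G') = 0 := by
      intro r hr
      rw [Ideal.map_map] at hr
      induction hr using Submodule.span_induction with
      | zero =>
        intro m hm c
        rw [show (⟨(0 : B') • m, Submodule.smul_mem _ 0 hm⟩ : Xp) = 0 from Subtype.ext (zero_smul B' m),
          Submodule.Quotient.mk_zero, tmul_zero]
      | add x x' _ _ hx hx' =>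
        intro m hm c
        rw [show (⟨(x + x') • m, Submodule.smul_mem _ _ hm⟩ : Xp) = ⟨x • m, Submodule.smul_mem _ x hm⟩ + ⟨x' • m, Submodule.smul_mem _ x' hm⟩
          from Subtype.ext (add_smul x x' m), Submodule.Quotient.mk_add, tmul_add, hx m hm c, hx' m hm c, add_zero]
      | smul d x _ hx =>
        intro m hm c
        rw [show (⟨(d • x) • m, Submodule.smul_mem _ _ hm⟩ : Xp) = ⟨x • (d • m), Submodule.smul_mem _ x (Submodule.smul_mem _ d hm)⟩
          from Subtype.ext (show (d * x) • m = x • d • m by rw [mul_comm, mul_smul])]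
        exact hx _ (Submodule.smul_mem _ d hm) c
      | mem x hx =>
        obtain ⟨r, hr, rfl⟩ := hx
        intro m hm c
        have he : (⟨ψ (algebraMap R B r) • m, Submodule.smul_mem _ _ hm⟩ : Xp) = algebraMap R C r • ⟨m, hm⟩ :=
          Subtype.ext (show ψ (algebraMap R B r) • m = algebraMap R C r • m by
            rw [h.psi_algebraMap_smul, algebraMap_smul])
        simp only [RingHom.comp_apply]
        rw [he, Submodule.Quotient.mk_smul, ← TensorProduct.smul_tmul, algebraMap_smul, Algebra.smul_def,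
          hP r hr, zero_mul, TensorProduct.zero_tmul]
    unfold Rel at hr
    refine (Submodule.smul_induction_on (p := fun v' => v' ∈ Xp ∧ ∀ hv' : v' ∈ Xp,
      ∀ c : k, c ⊗ₜ[C] (Submodule.Quotient.mk ⟨v', hv'⟩ : G') = 0) hr
      (fun r hr m hm => ⟨Submodule.smul_mem _ r hm, fun hv' c => ?_⟩)
      (fun u u' hu hu' => ⟨add_mem hu.1 hu'.1, fun hv' c => ?_⟩)).2 |> fun H hwp => H hwp 1
    · exact hkey r hr m hm c
    · rw [show (⟨u + u', hv'⟩ : Xp) = ⟨u, hu.1⟩ + ⟨u', hu'.1⟩ from rfl, Submodule.Quotient.mk_add, tmul_add,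
        hu.2, hu'.2, add_zero]
  have h1 : π (W.subtype.lTensor k c) = 0 := by
    clear hc
    induction c using TensorProduct.induction_on with
    | zero => simp
    | add a b ha hb => rw [map_add, map_add, ha, hb, add_zero]
    | tmul a x => exact h0 a x
  have h2 : (algebraMap R k f) ^ l • π y = 0 := by
    rw [← map_smul, ← map_pow, algebraMap_smul, hc]
    exact h1
  rcases smul_eq_zero.1 h2 with h | h
  · exact absurd (eq_zero_of_pow_eq_zero h) hf
  · exact h

end Groth.Agent.GrFlat
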