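import Groth.Agent.Lib.GrFlat.Model
import Groth.Agent.Lib.FlatH4.FlatAt
import Mathlib.RingTheory.Filtration

/-!
# Flatness near the zero set of an ideal from flatness of the truncations
-/

universe u

namespace Groth.Agent.GrFlat

open TensorProduct LinearMap FlatH4

/-- Noetherian case: flat truncations give flatness at primes containing the ideal. -/
theorem flat_localized_of_flat_qt {R T N : Type u} [CommRing R] [CommRing T] [Algebra R T] [IsNoetherianRing R]
    [IsNoetherianRing T] [AddCommGroup N] [Module R N] [Module T N] [IsScalarTower R T N] [Module.Finite T N]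
    (J : Ideal T) [∀ k, Module.Flat R (Qt J N k)] (q : Ideal T) [q.IsPrime] (hq : J ≤ q) :
    Module.Flat R (LocalizedModule q.primeCompl N) := by
  rw [flat_localized_iff]
  intro I x hx
  haveI : Module.Finite T (N ⊗[R] I) := Module.Finite.equiv (AlgebraTensorModule.cancelBaseChange R T T N I)
  have hmem : x ∈ (⨅ k : ℕ, J ^ k • ⊤ : Submodule T (N ⊗[R] I)) := by
    rw [Submodule.mem_iInf]
    intro k
    let X := J ^ k • (⊤ : Submodule T N)
    have h0 : (X.mkQ.restrictScalars R).rTensor I x = 0 := by
      apply Module.Flat.lTensor_preserves_injective_linearMap (M := Qt J N k) I.subtype I.injective_subtype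
      rw [map_zero, ← LinearMap.comp_apply, lTensor_comp_rTensor, ← rTensor_comp_lTensor,
        LinearMap.comp_apply, hx, map_zero]
    obtain ⟨y, rfl⟩ := (rTensor_exact I (f := X.subtype.restrictScalars R) (g := X.mkQ.restrictScalars R)
      (LinearMap.exact_subtype_mkQ X) X.mkQ_surjective x).1 h0
    clear hx h0
    induction y using TensorProduct.induction_on with
    | zero => simp
    | add a b ha hb => rw [map_add]; exact add_mem ha hb
    | tmul v r =>
      rw [rTensor_tmul]
      refine Submodule.smul_induction_on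
        (p := fun w => w ⊗ₜ[R] r ∈ (J ^ k • ⊤ : Submodule T (N ⊗[R] I))) v.2 (fun j hj m _ => ?_)
        fun a b ha hb => by rw [TensorProduct.add_tmul]; exact add_mem ha hb
      rw [← TensorProduct.smul_tmul']
      exact Submodule.smul_mem_smul hj trivial
  rw [Ideal.mem_iInf_smul_pow_eq_bot_iff] at hmem
  obtain ⟨r, hr⟩ := hmem
  refine ⟨1 - (r : T), fun h => ‹q.IsPrime›.ne_top ((Ideal.eq_top_iff_one q).2 ?_), ?_⟩
  · have := add_mem h (hq r.2)
    rwa [sub_add_cancel] at this
  · rw [sub_smul, one_smul, hr, sub_self]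

/-- A finitely presented module with flat truncations along a finitely generated ideal is flat at every
prime containing it. -/
theorem flat_localized_of_flat_qt_fp {A B M : Type u} [CommRing A] [CommRing B] [Algebra A B]
    [Algebra.FinitePresentation A B] (J : Ideal B) (hJ : J.FG) [AddCommGroup M] [Module B M] [Module A M]
    [IsScalarTower A B M] [Module.FinitePresentation B M] [∀ k, Module.Flat A (Qt J M k)]
    (q : Ideal B) [q.IsPrime] (hq : J ≤ q) : Module.Flat A (LocalizedModule q.primeCompl M) := by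
  obtain ⟨R, _, _, _, _, S, N, _, _, _, _, _, _, J₀, ψ, ι, hR, hS, hN, h, hmap, hψ, -⟩ := exists_model A B M J hJ
  subst hmap
  obtain ⟨R₂, hR₂, hflat⟩ := exists_stage_flat_qt J₀ h inferInstance
  haveI : IsNoetherianRing R₂ := isNoetherianRing_of_fg hR₂
  let T := R₂ ⊗[R] S
  haveI : Algebra.FiniteType R₂ T := Algebra.FiniteType.baseChange (A := S) R₂
  haveI : IsNoetherianRing T := Algebra.FiniteType.isNoetherianRing R₂ T
  letI := tensorModule R R₂ S N
  haveI := tensorModule_isScalarTower R R₂ S N
  haveI := tensorModule_finite R R₂ S N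
  let incl : S →ₐ[R] T := Algebra.TensorProduct.includeRight
  haveI : ∀ k, Module.Flat R₂ (Qt (J₀.map incl.toRingHom) (R₂ ⊗[R] N) k) := fun k => by
    haveI := hflat k
    exact Module.Flat.of_linearEquiv (qtEquiv (J := J₀) (compat_tensor R S N R₂) k).symm
  letI : Algebra R B := ((algebraMap A B).comp (algebraMap R A)).toAlgebra
  haveI : IsScalarTower R A B := IsScalarTower.of_algebraMap_eq fun _ => rfl
  let ψₐ : S →ₐ[R] B := { ψ with commutes' := hψ }
  let Ψ : T →ₐ[R] B := Algebra.TensorProduct.lift ((IsScalarTower.toAlgHom R A B).comp R₂.val) ψₐ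
    fun _ _ => Commute.all _ _
  have hle : J₀.map incl.toRingHom ≤ q.comap Ψ.toRingHom := by
    rw [Ideal.map_le_iff_le_comap]
    intro s hs
    show Ψ ((1 : R₂) ⊗ₜ[R] s) ∈ q
    rw [show Ψ ((1 : R₂) ⊗ₜ[R] s) = ψ s from (Algebra.TensorProduct.lift_tmul _ _ _ _ _).trans (by
      show algebraMap A B ((1 : R₂) : A) * ψ s = ψ s
      rw [OneMemClass.coe_one, map_one, one_mul])]
    exact hq (Ideal.mem_map_of_mem ψ hs)
  haveI := flat_localized_of_flat_qt (J₀.map incl.toRingHom) (q.comap Ψ.toRingHom) (R := R₂) (N := R₂ ⊗[R] N) hle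
  refine flat_localized_baseChange A Ψ.toRingHom q
    ((towerEquiv R R₂ A N).trans h.1.equiv) fun s z => ?_
  induction z using TensorProduct.induction_on with
  | zero => simp
  | add a b ha hb => simp only [smul_add, tmul_add, map_add, ha, hb]
  | tmul c n =>
    induction s using TensorProduct.induction_on with
    | zero =>
      rw [show ((0 : T) • (c ⊗ₜ[R] n) : R₂ ⊗[R] N) = 0 by
        show tensorAct R R₂ S N 0 (c ⊗ₜ[R] n) = 0
        simp]
      simp
    | add a b ha hb => simp only [add_smul, tmul_add, map_add, ha, hb]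
    | tmul d t =>
      rw [show (d ⊗ₜ[R] t : T) • (c ⊗ₜ[R] n : R₂ ⊗[R] N) = (d * c) ⊗ₜ[R] (t • n) from
        tensorAct_tmul R R₂ S N d c t n]
      have h1 : Ψ.toRingHom (d ⊗ₜ[R] t : T) = algebraMap A B (d : A) * ψ t :=
        Algebra.TensorProduct.lift_tmul _ _ _ d t
      have h2 : ∀ (e : R₂) (m : N), ((towerEquiv R R₂ A N).trans h.1.equiv) ((1 : A) ⊗ₜ[R₂] (e ⊗ₜ[R] m)) = (e : A) • ι m := by
        intro e m
        simp [towerEquiv, IsBaseChange.equiv_tmul]
        rfl
      rw [h1, h2, h2, mul_smul, algebraMap_smul, h.2, smul_comm (ψ t) (c : A), ← mul_smul, Subalgebra.coe_mul]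

end Groth.Agent.GrFlat
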