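import Groth.Agent.Lib.GrFlat.Stage
import Groth.Agent.Lib.FlatH4.FlatLocusFP
import Mathlib.RingTheory.Spectrum.Prime.Topology
import Mathlib.LinearAlgebra.DirectSum.TensorProduct

/-!
# The locus where a module over a finitely presented algebra is flat, seen on the base
-/

universe u

namespace Groth.Agent.GrFlat

open TensorProduct LinearMap FlatH4

/-- The set of primes of the base over which a finitely presented module over a finitely presented algebra
is flat after localization is open. -/
theorem isOpen_flat_localized_base {A C G : Type u} [CommRing A] [CommRing C] [Algebra A C]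
    [Algebra.FinitePresentation A C] [AddCommGroup G] [Module A G] [Module C G] [IsScalarTower A C G]
    [Module.FinitePresentation C G] :
    IsOpen {q : PrimeSpectrum A | Module.Flat A (LocalizedModule q.asIdeal.primeCompl G)} := by
  obtain ⟨s, hs⟩ := (PrimeSpectrum.isClosed_iff_zeroLocus _).1
    (isOpen_flat_localized (R := A) (S := C) (M := G)).isClosed_compl
  let I := Ideal.span s
  have hI : ∀ Q : PrimeSpectrum C,
      ¬ Module.Flat A (LocalizedModule Q.asIdeal.primeCompl G) ↔ I ≤ Q.asIdeal := fun Q => by
    have h1 := Set.ext_iff.1 hs Q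
    rw [PrimeSpectrum.mem_zeroLocus] at h1
    exact h1.trans Ideal.span_le.symm
  suffices h : {q : PrimeSpectrum A | Module.Flat A (LocalizedModule q.asIdeal.primeCompl G)}ᶜ =
      PrimeSpectrum.zeroLocus (I.comap (algebraMap A C) : Set A) by
    rw [← isClosed_compl_iff, h]
    exact PrimeSpectrum.isClosed_zeroLocus _
  ext q
  rw [Set.mem_compl_iff, PrimeSpectrum.mem_zeroLocus, Set.mem_ofPred_eq]
  constructor
  · intro hq
    by_contra hsub
    apply hq
    rw [flat_localized_iff]
    intro J x hx
    let 𝔞 : Ideal C := LinearMap.ker (LinearMap.toSpanSingleton C (G ⊗[A] J) x)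
    by_contra hne
    push Not at hne
    have hdis : Disjoint (𝔞 : Set C) (q.asIdeal.primeCompl.map (algebraMap A C) : Submonoid C) := by
      rw [Set.disjoint_right]
      rintro _ ⟨a, ha, rfl⟩ h
      refine hne a ha ?_
      rw [← algebraMap_smul C a x]
      exact h
    obtain ⟨Q, hQ, hle, hQdis⟩ := Ideal.exists_le_prime_disjoint 𝔞 _ hdis
    by_cases hfl : Module.Flat A (LocalizedModule Q.primeCompl G)
    · obtain ⟨t, ht, htx⟩ := (flat_localized_iff Q).1 hfl J x hx
      exact ht (hle htx)
    · refine hsub fun a ha => ?_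
      by_contra haq
      exact Set.disjoint_left.1 hQdis ((hI ⟨Q, hQ⟩).1 hfl ha) ⟨a, haq, rfl⟩
  · intro hle hq
    obtain ⟨m, hm, hmq⟩ := Ideal.exists_minimalPrimes_le (I := I.comap (algebraMap A C)) (J := q.asIdeal) hle
    obtain ⟨Q, hQ, hIQ, hQm⟩ := Ideal.exists_comap_eq_of_mem_minimalPrimes (algebraMap A C) m hm
    refine (hI ⟨Q, hQ⟩).2 hIQ ?_
    rw [flat_localized_iff]
    intro J x hx
    obtain ⟨a, ha, hax⟩ := (flat_localized_iff q.asIdeal).1 hq J x hx
    refine ⟨algebraMap A C a, fun h => ha (hmq (hQm ▸ h)), ?_⟩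
    rw [algebraMap_smul]
    exact hax

open DirectSum in
/-- Flatness at a prime of a direct sum is flatness of all summands. -/
theorem flat_localized_directSum_iff {A : Type u} [CommRing A] (q : Ideal A) [q.IsPrime] (G : ℕ → Type u)
    [∀ n, AddCommGroup (G n)] [∀ n, Module A (G n)] :
    Module.Flat A (LocalizedModule q.primeCompl (⨁ n, G n)) ↔
      ∀ n, Module.Flat A (LocalizedModule q.primeCompl (G n)) := by
  let L := Localization q.primeCompl
  let e : ∀ (X : Type u) [AddCommGroup X] [Module A X], LocalizedModule q.primeCompl X ≃ₗ[A] L ⊗[A] X :=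
    fun X _ _ => (LocalizedModule.equivTensorProduct q.primeCompl X).restrictScalars A
  rw [Module.Flat.equiv_iff ((e _).trans (TensorProduct.directSumRight A A L G)), Module.Flat.directSum_iff]
  exact forall_congr' fun n => (Module.Flat.equiv_iff (e (G n))).symm

end Groth.Agent.GrFlat
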