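import Groth.Agent.Lib.GrFlat.Core
import Groth.Agent.Lib.SchDom.GoodAtFP

/-!
# Noetherian models of adically filtered finitely presented modules
-/

universe u

namespace Groth.Agent.GrFlat

open TensorProduct FlatSyz

/-- A finitely presented module over a finitely presented algebra with a finitely generated ideal comes
from a Noetherian ring. -/
theorem exists_model (A B M : Type u) [CommRing A] [CommRing B] [Algebra A B]
    [Algebra.FinitePresentation A B] (J : Ideal B) (hJ : J.FG) [AddCommGroup M] [Module B M] [Module A M]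
    [IsScalarTower A B M] [Module.FinitePresentation B M] :
    ∃ (R : Type u) (_ : CommRing R) (_ : Algebra R A) (_ : Module R M) (_ : IsScalarTower R A M)
      (S N : Type u) (_ : CommRing S) (_ : Algebra R S)
      (_ : AddCommGroup N) (_ : Module R N) (_ : Module S N) (_ : IsScalarTower R S N)
      (J₀ : Ideal S) (ψ : S →+* B) (ι : N →ₗ[R] M),
      IsNoetherianRing R ∧ Algebra.FiniteType R S ∧ Module.Finite S N ∧ Compat (C := A) ψ ι ∧ J₀.map ψ = J ∧
        (∀ r, ψ (algebraMap R S r) = algebraMap A B (algebraMap R A r)) ∧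
        Submodule.span A (Set.range ψ) = ⊤ := by
  classical
  obtain ⟨n, φ, hφ, hkerφ⟩ := Algebra.FinitePresentation.out (R := A) (A := B)
  let P := MvPolynomial (Fin n) A
  letI : Algebra P B := φ.toRingHom.toAlgebra
  letI : Module P M := Module.compHom M φ.toRingHom
  haveI : IsScalarTower P B M := IsScalarTower.of_algebraMap_smul fun _ _ => rfl
  haveI : IsScalarTower A P M := IsScalarTower.of_algebraMap_smul fun c x => by
    show φ (algebraMap A P c) • x = c • x
    rw [AlgHom.commutes, algebraMap_smul]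
  haveI : Module.FinitePresentation P B :=
    Module.finitePresentation_of_surjective (Algebra.linearMap P B) hφ (by exact hkerφ)
  haveI : Module.FinitePresentation P M := Module.FinitePresentation.trans P M B
  obtain ⟨m, ρ, hρ⟩ := Module.Finite.exists_fin' P M
  obtain ⟨e, w, hw⟩ := Submodule.fg_iff_exists_fin_generating_family.1
    (Module.FinitePresentation.fg_ker ρ hρ)
  obtain ⟨s, hs⟩ := hJ
  choose gl hgl using fun b : B => hφ b
  let C : Set A := (⋃ j : Fin e, ⋃ i : Fin m, ((w j i).coeffs : Set A)) ∪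
    ⋃ b : s, ((gl b.1).coeffs : Set A)
  have hC : C.Finite :=
    (Set.finite_iUnion fun j => Set.finite_iUnion fun i => (w j i).coeffs.finite_toSet).union
      (Set.finite_iUnion fun b => (gl b.1).coeffs.finite_toSet)
  let R : Subalgebra ℤ A := Algebra.adjoin ℤ C
  haveI : IsNoetherianRing R := isNoetherianRing_of_fg (Subalgebra.fg_def.2 ⟨C, hC, rfl⟩)
  let S := MvPolynomial (Fin n) R
  have hlift : ∀ q : P, (∀ c ∈ q.coeffs, c ∈ C) → ∃ p₀ : S, MvPolynomial.map (algebraMap R A) p₀ = q := by
    intro q hq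
    have h' : q ∈ Set.range (MvPolynomial.map (σ := Fin n) (algebraMap R A)) := by
      rw [MvPolynomial.mem_range_map_iff_coeffs_subset]
      exact fun x hx => ⟨⟨x, Algebra.subset_adjoin (hq x hx)⟩, rfl⟩
    exact h'
  choose w₁ hw₁ using fun j i => hlift (w j i) fun c hc =>
    Or.inl (Set.mem_iUnion.2 ⟨j, Set.mem_iUnion.2 ⟨i, hc⟩⟩)
  choose g₁ hg₁ using fun b : s => hlift (gl b.1) fun c hc => Or.inr (Set.mem_iUnion.2 ⟨b, hc⟩)
  let K₁ := Submodule.span S (Set.range w₁)
  have hK : mapSub A K₁ = LinearMap.ker ρ := by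
    rw [mapSub_span, ← hw, ← Set.range_comp]
    exact congrArg _ (congrArg Set.range (funext fun j => funext (hw₁ j)))
  obtain ⟨ι, hι, -, hsmul⟩ := SchDom.isBaseChange_quotient_model (N₀ := M) K₁ ρ hρ hK.symm
  let ψ : S →+* B := φ.toRingHom.comp (MvPolynomial.map (algebraMap R A))
  refine ⟨R, inferInstance, inferInstance, inferInstance, inferInstance, S, (Fin m → S) ⧸ K₁, inferInstance,
    inferInstance, inferInstance, inferInstance, inferInstance, inferInstance, Ideal.span (Set.range g₁), ψ, ι,
    inferInstance, inferInstance, inferInstance, ⟨hι, hsmul⟩, ?_, fun r => ?_, ?_⟩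
  rotate_left
  · show φ (MvPolynomial.map (algebraMap R A) (MvPolynomial.C r)) = algebraMap A B (algebraMap R A r)
    rw [MvPolynomial.map_C, ← MvPolynomial.algebraMap_eq, AlgHom.commutes]
  · rw [eq_top_iff]
    intro b _
    obtain ⟨p, rfl⟩ := hφ b
    induction p using MvPolynomial.induction_on' with
    | monomial d a =>
      have : φ (MvPolynomial.monomial d a) = a • ψ (MvPolynomial.monomial d 1) := by
        show _ = a • φ (MvPolynomial.map (algebraMap R A) (MvPolynomial.monomial d 1))
        rw [MvPolynomial.map_monomial, map_one, ← map_smul, MvPolynomial.smul_monomial, smul_eq_mul, mul_one]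
      rw [this]
      exact Submodule.smul_mem _ _ (Submodule.subset_span ⟨_, rfl⟩)
    | add p q hp hq => rw [map_add]; exact add_mem (hp trivial) (hq trivial)
  rw [Ideal.map_span, ← Set.range_comp, ← hs]
  refine congrArg Ideal.span (Set.ext fun b => ⟨?_, fun hb => ⟨⟨b, hb⟩, ?_⟩⟩)
  · rintro ⟨c, rfl⟩
    show φ (MvPolynomial.map (algebraMap R A) (g₁ c)) ∈ s
    rw [hg₁, hgl]
    exact c.2
  · show φ (MvPolynomial.map (algebraMap R A) (g₁ ⟨b, hb⟩)) = b
    rw [hg₁, hgl]

/-- Truncations of a finitely presented module are quotients of its base change. -/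
noncomputable def tensorQtEquiv (A₀ : Type u) [CommRing A₀] {B₀ M₀ : Type u} [CommRing B₀] [Algebra A₀ B₀]
    [AddCommGroup M₀] [Module A₀ M₀] [Module B₀ M₀] [IsScalarTower A₀ B₀ M₀] (J₀ : Ideal B₀)
    (A : Type u) [CommRing A] [Algebra A₀ A] (k : ℕ) :
    ((A ⊗[A₀] M₀) ⧸ LinearMap.range
      (((J₀ ^ k • (⊤ : Submodule B₀ M₀)).restrictScalars A₀).subtype.baseChange A)) ≃ₗ[A]
      A ⊗[A₀] Qt J₀ M₀ k :=
  let X := J₀ ^ k • (⊤ : Submodule B₀ M₀)
  have hex : Function.Exact ((X.restrictScalars A₀).subtype.baseChange A)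
      ((X.mkQ.restrictScalars A₀).baseChange A) :=
    _root_.lTensor_exact A (LinearMap.exact_subtype_mkQ X) X.mkQ_surjective
  (Submodule.quotEquivOfEq _ _ hex.linearMap_ker_eq.symm).trans
    (((X.mkQ.restrictScalars A₀).baseChange A).quotKerEquivOfSurjective
      (LinearMap.lTensor_surjective A X.mkQ_surjective))

/-- Flat truncations over `A` come from flat truncations over a Noetherian ring. -/
theorem exists_stage_flat_qt {R S N : Type u} [CommRing R] [CommRing S] [Algebra R S] [AddCommGroup N]
    [Module R N] [Module S N] [IsScalarTower R S N] [IsNoetherianRing R] [Algebra.FiniteType R S]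
    [Module.Finite S N] (J₀ : Ideal S) {A B M : Type u} [CommRing A] [Algebra R A] [CommRing B] [Algebra A B]
    [AddCommGroup M] [Module R M] [Module A M] [IsScalarTower R A M] [Module B M] [IsScalarTower A B M]
    {ψ : S →+* B} {ι : N →ₗ[R] M} (h : Compat (C := A) ψ ι)
    (hflat : ∀ k, Module.Flat A (Qt (J₀.map ψ) M k)) :
    ∃ R₂ : Subalgebra R A, R₂.FG ∧ ∀ k, Module.Flat R₂ (R₂ ⊗[R] Qt J₀ N k) := by
  haveI : ∀ k, Module.Flat A (A ⊗[R] Qt J₀ N k) := fun k => by
    haveI := hflat k
    exact Module.Flat.of_linearEquiv (qtEquiv h k)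
  exact exists_subalgebra_flat_qt J₀ N A

end Groth.Agent.GrFlat
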