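import Groth.Agent.Lib.GrFlat.FlatAt

/-!
# Noetherian models with flat truncations, and comparison of the graded pieces
-/

universe u

namespace Groth.Agent.GrFlat

open TensorProduct LinearMap FlatH4

/-- A module with flat truncations has a Noetherian model with flat truncations. -/
theorem exists_flat_model (A B M : Type u) [CommRing A] [CommRing B] [Algebra A B]
    [Algebra.FinitePresentation A B] (J : Ideal B) (hJ : J.FG) [AddCommGroup M] [Module B M] [Module A M]
    [IsScalarTower A B M] [Module.FinitePresentation B M] [∀ k, Module.Flat A (Qt J M k)] :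
    ∃ (R : Type u) (_ : CommRing R) (_ : Algebra R A) (_ : Module R M) (_ : IsScalarTower R A M)
      (T N : Type u) (_ : CommRing T) (_ : Algebra R T) (_ : AddCommGroup N) (_ : Module R N) (_ : Module T N)
      (_ : IsScalarTower R T N) (J₁ : Ideal T) (θ : T →+* B) (ι : N →ₗ[R] M),
      IsNoetherianRing R ∧ Algebra.FiniteType R T ∧ Module.Finite T N ∧ Compat (C := A) θ ι ∧ J₁.map θ = J ∧
        Submodule.span A (Set.range θ) = ⊤ ∧ (∀ k, Module.Flat R (Qt J₁ N k)) ∧
        ∀ r, θ (algebraMap R T r) = algebraMap A B (algebraMap R A r) := by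
  obtain ⟨R, _, _, _, _, S, N, _, _, _, _, _, _, J₀, ψ, ι, hR, hS, hN, h, hmap, hψ, hspan⟩ :=
    exists_model A B M J hJ
  subst hmap
  obtain ⟨R₂, hR₂, hflat⟩ := exists_stage_flat_qt J₀ h inferInstance
  haveI : IsNoetherianRing R₂ := isNoetherianRing_of_fg hR₂
  let T := R₂ ⊗[R] S
  haveI : Algebra.FiniteType R₂ T := Algebra.FiniteType.baseChange (A := S) R₂
  letI := tensorModule R R₂ S N
  haveI := tensorModule_isScalarTower R R₂ S N
  haveI := tensorModule_finite R R₂ S N
  let incl : S →ₐ[R] T := Algebra.TensorProduct.includeRight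
  have hfl : ∀ k, Module.Flat R₂ (Qt (J₀.map incl.toRingHom) (R₂ ⊗[R] N) k) := fun k => by
    haveI := hflat k
    exact Module.Flat.of_linearEquiv (qtEquiv (J := J₀) (compat_tensor R S N R₂) k).symm
  letI : Algebra R B := ((algebraMap A B).comp (algebraMap R A)).toAlgebra
  haveI : IsScalarTower R A B := IsScalarTower.of_algebraMap_eq fun _ => rfl
  let ψₐ : S →ₐ[R] B := { ψ with commutes' := hψ }
  let Ψ : T →ₐ[R] B := Algebra.TensorProduct.lift ((IsScalarTower.toAlgHom R A B).comp R₂.val) ψₐ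
    fun _ _ => Commute.all _ _
  have hΨt : ∀ (d : R₂) (t : S), Ψ (d ⊗ₜ[R] t) = algebraMap A B (d : A) * ψ t := fun d t =>
    Algebra.TensorProduct.lift_tmul _ _ _ d t
  have hΨ1 : ∀ t : S, Ψ ((1 : R₂) ⊗ₜ[R] t) = ψ t := fun t => by
    rw [hΨt, OneMemClass.coe_one, map_one, one_mul]
  let ι' : R₂ ⊗[R] N →ₗ[R₂] M := ι.liftBaseChange R₂
  have hι' : IsBaseChange A ι' := IsBaseChange.of_equiv ((towerEquiv R R₂ A N).trans h.1.equiv) fun z => by
    induction z using TensorProduct.induction_on with
    | zero => simp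
    | add a b ha hb => simp only [tmul_add, map_add, ha, hb]
    | tmul c n =>
      simp [ι', towerEquiv, IsBaseChange.equiv_tmul]
  refine ⟨R₂, inferInstance, inferInstance, inferInstance, inferInstance, T, R₂ ⊗[R] N, inferInstance,
    inferInstance, inferInstance, inferInstance, inferInstance, inferInstance, J₀.map incl.toRingHom, Ψ.toRingHom,
    ι', inferInstance, inferInstance, inferInstance, ⟨hι', fun s z => ?_⟩, ?_, ?_, hfl, fun r => ?_⟩
  · induction s using TensorProduct.induction_on with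
    | zero =>
      rw [show ((0 : T) • z : R₂ ⊗[R] N) = 0 by
        show tensorAct R R₂ S N 0 z = 0
        simp]
      simp
    | add a b ha hb => rw [add_smul, map_add, ha, hb, map_add, add_smul]
    | tmul d t =>
      induction z using TensorProduct.induction_on with
      | zero => simp
      | add a b ha hb => rw [smul_add, map_add, ha, hb, map_add, smul_add]
      | tmul c n =>
        rw [show (d ⊗ₜ[R] t : T) • (c ⊗ₜ[R] n : R₂ ⊗[R] N) = (d * c) ⊗ₜ[R] (t • n) from
          tensorAct_tmul R R₂ S N d c t n]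
        simp only [ι', LinearMap.liftBaseChange_tmul, AlgHom.toRingHom_eq_coe, RingHom.coe_coe, hΨt, h.2]
        show ((d * c : R₂) : A) • ψ t • ι n = (algebraMap A B (d : A) * ψ t) • (c : A) • ι n
        rw [mul_smul (algebraMap A B (d : A)), algebraMap_smul, Subalgebra.coe_mul, mul_smul,
          smul_comm (ψ t) (c : A)]
  · rw [Ideal.map_map]
    refine congrArg (fun f => J₀.map f) (RingHom.ext fun t => ?_)
    exact hΨ1 t
  · rw [eq_top_iff, ← hspan, Submodule.span_le]
    rintro _ ⟨t, rfl⟩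
    exact Submodule.subset_span ⟨(1 : R₂) ⊗ₜ[R] t, hΨ1 t⟩
  · show Ψ (r ⊗ₜ[R] (1 : S)) = _
    rw [hΨt, map_one, mul_one]
    rfl

section Compare

variable {R T N : Type u} [CommRing R] [CommRing T] [Algebra R T] [AddCommGroup N] [Module R N]
  [Module T N] [IsScalarTower R T N] {J₁ : Ideal T}
  {A B M : Type u} [CommRing A] [Algebra R A] [CommRing B] [Algebra A B] [AddCommGroup M] [Module R M]
  [Module A M] [IsScalarTower R A M] [Module B M] [IsScalarTower A B M]
  {θ : T →+* B} {ι : N →ₗ[R] M}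

/-- The comparison of graded pieces, before tensoring. -/
noncomputable def grMap (h : Compat (C := A) θ ι) (J₁ : Ideal T) (k : ℕ) :
    Gr J₁ N k →+ Gr (J₁.map θ) M k :=
  QuotientAddGroup.lift (Submodule.comap (J₁ ^ k • (⊤ : Submodule T N)).subtype (J₁ ^ (k + 1) • ⊤)).toAddSubgroup
    ((Submodule.mkQ _).toAddMonoidHom.comp (AddMonoidHom.mk' (fun x : ↥(J₁ ^ k • (⊤ : Submodule T N)) =>
      (⟨ι x, h.mem_pow_smul_top k x.2⟩ : ↥((J₁.map θ) ^ k • (⊤ : Submodule B M))))
      fun a b => Subtype.ext (map_add ι _ _)))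
    (fun x hx => by
      show Submodule.Quotient.mk _ = 0
      exact (Submodule.Quotient.mk_eq_zero _).2 (h.mem_pow_smul_top (k + 1) hx))

theorem grMap_mk (h : Compat (C := A) θ ι) (k : ℕ) (x : ↥(J₁ ^ k • (⊤ : Submodule T N))) :
    grMap h J₁ k (Submodule.Quotient.mk x) = Submodule.Quotient.mk ⟨ι x, h.mem_pow_smul_top k x.2⟩ := rfl

theorem grMap_smul (h : Compat (C := A) θ ι) (k : ℕ) (t : T) (x : Gr J₁ N k) :
    grMap h J₁ k (t • x) = θ t • grMap h J₁ k x := by
  obtain ⟨x, rfl⟩ := Submodule.Quotient.mk_surjective _ x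
  rw [← Submodule.Quotient.mk_smul, grMap_mk, grMap_mk, ← Submodule.Quotient.mk_smul]
  exact congrArg _ (Subtype.ext (h.2 t x))

/-- `θ T` and `A` generate the graded pieces of `M` from those of `N`. -/
theorem span_range_grMap (h : Compat (C := A) θ ι) (k : ℕ) :
    Submodule.span A (Set.range (grMap h J₁ k)) = ⊤ := by
  rw [eq_top_iff]
  intro g hg
  clear hg
  obtain ⟨⟨v, hv⟩, rfl⟩ := Submodule.Quotient.mk_surjective _ g
  have hv' : v ∈ Submodule.span A (ι '' ((J₁ ^ k • (⊤ : Submodule T N) : Submodule T N) : Set N)) := by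
    rw [← h.pow_smul_top_eq]; exact hv
  suffices ∀ hv : v ∈ (J₁.map θ) ^ k • (⊤ : Submodule B M),
      (Submodule.Quotient.mk ⟨v, hv⟩ : Gr (J₁.map θ) M k) ∈ Submodule.span A (Set.range (grMap h J₁ k)) from this hv
  clear hv
  induction hv' using Submodule.span_induction with
  | mem w hw =>
    obtain ⟨x, hx, rfl⟩ := hw
    intro hv
    exact Submodule.subset_span ⟨Submodule.Quotient.mk ⟨x, hx⟩, rfl⟩
  | zero =>
    intro hv
    rw [show (⟨0, hv⟩ : ↥((J₁.map θ) ^ k • (⊤ : Submodule B M))) = 0 from rfl, Submodule.Quotient.mk_zero]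
    exact zero_mem _
  | add a b ha' hb' ha hb =>
    intro hv
    have hXa : a ∈ (J₁.map θ) ^ k • (⊤ : Submodule B M) := by
      rw [← Submodule.restrictScalars_mem A, h.pow_smul_top_eq]; exact ha'
    have hXb : b ∈ (J₁.map θ) ^ k • (⊤ : Submodule B M) := by
      rw [← Submodule.restrictScalars_mem A, h.pow_smul_top_eq]; exact hb'
    rw [show (⟨a + b, hv⟩ : ↥((J₁.map θ) ^ k • (⊤ : Submodule B M))) = ⟨a, hXa⟩ + ⟨b, hXb⟩ from rfl,
      Submodule.Quotient.mk_add]
    exact add_mem (ha hXa) (hb hXb)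
  | smul d a ha' ha =>
    intro hv
    have hXa : a ∈ (J₁.map θ) ^ k • (⊤ : Submodule B M) := by
      rw [← Submodule.restrictScalars_mem A, h.pow_smul_top_eq]; exact ha'
    rw [show (⟨d • a, hv⟩ : ↥((J₁.map θ) ^ k • (⊤ : Submodule B M))) = d • ⟨a, hXa⟩ from rfl,
      Submodule.Quotient.mk_smul]
    exact Submodule.smul_mem _ d (ha hXa)

/-- With flat truncations, graded pieces of `M` are exactly the base change of those of `N`. -/
theorem grMap_liftBaseChange_injective (h : Compat (C := A) θ ι) (k : ℕ) [Module.Flat R (Qt J₁ N k)]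
    (z : A ⊗[R] Gr J₁ N k)
    (hz : (TensorProduct.liftAddHom (AddMonoidHom.mk' (fun a : A => AddMonoidHom.mk'
        (fun g : Gr J₁ N k => a • grMap h J₁ k g) fun _ _ => by rw [map_add, smul_add])
        fun a b => by ext g; simp [add_smul])
      (fun r a g => by
        show (r • a) • grMap h J₁ k g = a • grMap h J₁ k (r • g)
        rw [← algebraMap_smul T r g, grMap_smul]
        obtain ⟨⟨v, hv⟩, hvg⟩ := Submodule.Quotient.mk_surjective _ (grMap h J₁ k g)
        rw [← hvg, ← Submodule.Quotient.mk_smul, ← Submodule.Quotient.mk_smul, ← Submodule.Quotient.mk_smul]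
        exact congrArg _ (Subtype.ext (show (r • a) • v = a • θ (algebraMap R T r) • v by
          rw [h.psi_algebraMap_smul, smul_assoc, smul_comm]))) : A ⊗[R] Gr J₁ N k →+ Gr (J₁.map θ) M k) z = 0) :
    z = 0 := by
  have hinj : Function.Injective (grC R J₁ N A k) :=
    FlatSyz.lTensor_subtype_injective_of_flat_quotient ((grIncl J₁ N k).restrictScalars R)
      (grIncl_injective J₁ N k) ((qtTr J₁ N k).restrictScalars R) (fun y => exact_grIncl_qtTr J₁ N k y)
      (qtTr_surjective J₁ N k) A
  apply hinj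
  apply (qtEquiv h (k + 1)).injective
  rw [map_zero, map_zero, ← map_zero (grIncl (J₁.map θ) M k), ← hz]
  clear hz
  induction z using TensorProduct.induction_on with
  | zero => simp
  | add a b ha hb => simp only [map_add, ha, hb]
  | tmul a g =>
    obtain ⟨x, rfl⟩ := Submodule.Quotient.mk_surjective _ g
    have h1 : qtEquiv h (k + 1) (a ⊗ₜ[R] (Submodule.Quotient.mk (x : N) : Qt J₁ N (k + 1))) =
        a • Submodule.Quotient.mk (ι x) := by
      rw [← mul_one a, ← smul_eq_mul, ← TensorProduct.smul_tmul', map_smul, qtEquiv_tmul, smul_eq_mul, mul_one]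
    simpa [grMap_mk] using h1

end Compare

end Groth.Agent.GrFlat
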